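import Mathlib
import Cfsg.Prelude.Def_FusionComponents
import Cfsg.Prelude.Def_CaseTheorems
import Cfsg.Prelude.Def_Local
import Cfsg.Prelude.Def_Transfer
import Cfsg.Prelude.Def_Classical
import Cfsg.Prelude.Def_Spor_J3
import Cfsg.Agent.H802.FusBasic
import Cfsg.Prelude.Def_BaumannBlocks

/-!
# S5175 (Henke's theorem): common definitions

Plan: `outputs/live/tools/plans/S5175.md`.
-/

set_option autoImplicit false

namespace Cfsg.Agent.H756.HM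

open Cfsg Cfsg.FusionSystem
open scoped commutatorElement

universe u

/-! ### The hypotheses and the conclusion of S5175 -/

section
variable {Ω : Type*} [Group Ω] {S : Subgroup Ω}

/-- all local subsystems are solvable -/
def HMin (F : FusionSystem S) : Prop :=
  ∀ U : Subgroup Ω, U ≠ ⊥ → F.IsFullyNormalized U →
    ∀ E : FusionSystem (normalizerIn S U), F.IsNormalizerSystem U E → E.IsSolvableSystem

/-- `N` contains the full parabolics of `F` -/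
def HPar (F N : FusionSystem S) : Prop :=
  ∀ R : Subgroup Ω, R ≠ ⊥ → R ≤ S → S ≤ Subgroup.normalizer (R : Set Ω) →
    (∀ P : Subgroup Ω, F.normalizerHom S P ⊆ F.normalizerHom R P) →
    ∀ P : Subgroup Ω, F.normalizerHom R P ⊆ N.Hom P

/-- `N_F(C) ≤ N` -/
def NN (F N : FusionSystem S) (C : Subgroup Ω) : Prop :=
  ∀ P : Subgroup Ω, F.normalizerHom C P ⊆ N.Hom P

/-- conjugate `x V x⁻¹` -/
abbrev cj (x : Ω) (V : Subgroup Ω) : Subgroup Ω := V.map (MulAut.conj x).toMonoidHom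

/-- the fixed points in `V` of a group `E` of automorphisms of `V`, as a subgroup of `Ω` -/
def fixS (V : Subgroup Ω) (E : Subgroup (MulAut V)) : Subgroup Ω :=
  ({ carrier := {v : V | ∀ e ∈ E, e v = v}
     one_mem' := fun e _ => map_one e
     mul_mem' := fun {a b} ha hb e he => by rw [map_mul, ha e he, hb e he]
     inv_mem' := fun {a} ha e he => by rw [map_inv, ha e he] } : Subgroup V).map V.subtype

/-- `[V, E]`, as a subgroup of `Ω` -/
def comS (V : Subgroup Ω) (E : Subgroup (MulAut V)) : Subgroup Ω :=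
  (Subgroup.closure {y : V | ∃ v : V, ∃ e ∈ E, y = v⁻¹ * e v}).map V.subtype

end

/-- The conclusion of S5175. -/
def Concl {Ω : Type u} [Group Ω] {S : Subgroup Ω} (F : FusionSystem S) : Prop :=
    ∃ (G : Type u) (_ : Group G) (_ : Finite G) (ι : ↥S →* G),
      F.IsRealizedBy ι ∧ (∃ T : Sylow 2 G, (T : Subgroup G) = ι.range) ∧
      (((∃ m : ℕ, 8 ≤ m ∧ Nonempty (↥S ≃* DihedralGroup m)) ∧
          ∃ (K : Type) (_ : Field K) (_ : Fintype K), Odd (Fintype.card K) ∧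
            (Nonempty (G ≃* Matrix.ProjectiveSpecialLinearGroup (Fin 2) K) ∨
              Nonempty (G ≃* GL (Fin 2) K ⧸ Subgroup.center (GL (Fin 2) K)))) ∨
        (Cfsg.IsQuasiDihedral ↥S ∧
          ∃ (K : Type) (_ : Field K) (_ : Fintype K) (r : ℕ), Odd r ∧ Fintype.card K = r ^ 2 ∧
            ∃ L : Subgroup G, L.Normal ∧ L.index = 2 ∧ Subgroup.centralizer (L : Set G) = ⊥ ∧
              Nonempty (↥L ≃* Matrix.ProjectiveSpecialLinearGroup (Fin 2) K)) ∨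
        (Cfsg.IsQuasiDihedral ↥S ∧ Nat.card S = 16 ∧
          Nonempty (G ≃* Matrix.ProjectiveSpecialLinearGroup (Fin 3) (ZMod 3))) ∨
        (Nat.card S = 32 ∧ (Nonempty (G ≃* MulAut ↥(alternatingGroup (Fin 6))) ∨
          Nonempty (G ≃* MulAut (Matrix.ProjectiveSpecialLinearGroup (Fin 3) (ZMod 3))))) ∨
        (Nat.card S = 2 ^ 7 ∧ Cfsg.Spor.IsoJ3 G) ∨
        (∃ (K : Type) (_ : Field K) (_ : Fintype K),
          (Nonempty (↥(Cfsg.generalizedFittingSubgroup G) ≃* Matrix.ProjectiveSpecialLinearGroup (Fin 3) K) ∨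
            (Nonempty (↥(Cfsg.generalizedFittingSubgroup G) ≃* Cfsg.PSp 2 K) ∧
              ∃ e : ℕ, Odd e ∧ Fintype.card K = 2 ^ e)) ∧
          Cfsg.generalizedFittingSubgroup G ≤ Cfsg.pResidual 2 G ∧
          Odd ((Cfsg.generalizedFittingSubgroup G).subgroupOf (Cfsg.pResidual 2 G)).index ∧
          (Cfsg.pResidual 2 G).index = 2))

/-! ### Output of the first local analysis (fusion side) -/

/-- `T ≤ S`, `P` a finite 2-minimal group of characteristic 2 with Sylow 2-subgroup `T` whose fusion on `T` lies in `F`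
(but not in `N`), no nontrivial characteristic subgroup of `T` is normal in `P`, and the pushing-up conditions. -/
structure Sit {Ω : Type u} [Group Ω] {S : Subgroup Ω} (F : FusionSystem S) (T : Subgroup Ω)
    (P : Type u) [Group P] where
  fin : Finite P
  T_le : T ≤ S
  T_ne : T ≠ ⊥
  ι : T →* P
  inj : Function.Injective ι
  syl : ∃ R : Sylow 2 P, (R : Subgroup P) = ι.range
  char2 : Subgroup.centralizer (pCore 2 P : Set P) ≤ pCore 2 P
  pmin : IsPMinimal 2 P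
  /-- the fusion of `P` on `T` is in `F` -/
  fus : ∀ (A : Subgroup Ω) (hA : A ≤ T) (g : P) (φ : A →* Ω) (hφ : ∀ a : A, φ a ∈ T),
    (∀ a : A, ι ⟨φ a, hφ a⟩ = g * ι ⟨a, hA a.2⟩ * g⁻¹) → φ ∈ F.Hom A
  /-- no nontrivial characteristic subgroup of `T` is normal in `P` -/
  nchar : ∀ C : Subgroup T, C.Characteristic → C ≠ ⊥ → ¬ (C.map ι).Normal
  /-- nontrivial subgroups of `T` normal in `P` are fully normalized in `F` with normalizer `T` -/
  fnorm : ∀ D : Subgroup Ω, D ≤ T → D ≠ ⊥ → ((D.subgroupOf T).map ι).Normal →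
    F.IsFullyNormalized D ∧ normalizerIn S D = T
  /-- the two cases -/
  alt : (T = S ∧ ∀ D : Subgroup T, D ≠ ⊥ →
        (∀ β : MulAut T, T.subtype.comp β.toMonoidHom ∈ F.Hom T → D.map β.toMonoidHom = D) →
        ¬ (D.map ι).Normal) ∨
    ((∃ x ∈ S, x ∈ Subgroup.normalizer (T : Set Ω) ∧ x ∉ T ∧ x ^ 2 ∈ T) ∧
      ∀ x ∈ S, x ∈ Subgroup.normalizer (T : Set Ω) → x ∉ T →
        ∀ D : Subgroup Ω, D ≤ T → D ≠ ⊥ → cj x D = D → ¬ ((D.subgroupOf T).map ι).Normal)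

/-! ### Output of the block analysis (group side) -/

/-- Basic facts on `W = [O_2(P), O²(P)]`: it is elementary abelian, central in `O_2(P)`, and `C_T(W) = O_2(P)`. -/
structure BW {P : Type*} [Group P] (T : Subgroup P) : Prop where
  W_comm : ∀ w ∈ ⁅pCore 2 P, pResidual 2 P⁆, ∀ g ∈ pCore 2 P, w * g = g * w
  W_sq : ∀ w ∈ ⁅pCore 2 P, pResidual 2 P⁆, w ^ 2 = 1
  CTW : T ⊓ Subgroup.centralizer (⁅pCore 2 P, pResidual 2 P⁆ : Subgroup P) = pCore 2 P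

/-- The blocks of `P`: `O²(P)` is the product of the pairwise commuting subgroups `E i`, transitively permuted by `T`,
with `W_i = [O_2(P), E_i] = O_2(E_i)`, all linear over the same field with at least 4 elements, or all symmetric
(degree `2m+1 ≥ 3`; degree 3 is the linear case over the field with 2 elements). -/
structure Blk {P : Type*} [Group P] (T : Subgroup P) where
  I : Type
  fin : Finite I
  ne : Nonempty I
  E : I → Subgroup P
  inj : Function.Injective E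
  comm : ∀ i j, i ≠ j → ⁅E i, E j⁆ = ⊥
  sup : (⨆ i, E i) = pResidual 2 P
  perm : ∀ t ∈ T, ∀ i, ∃ j, (E i).map (MulAut.conj t).toMonoidHom = E j
  trans : ∀ i j, ∃ t ∈ T, (E i).map (MulAut.conj t).toMonoidHom = E j
  core : ∀ i, pCoreOf 2 (E i) = ⁅pCore 2 P, E i⁆
  perf : ∀ i, ⁅⁅pCore 2 P, E i⁆, E i⁆ = ⁅pCore 2 P, E i⁆
  two : ∀ i, pResidualOf 2 (E i) = E i
  bw : BW T
  /-- `T / O_2(P)` acts faithfully on `W / C_W(O²(P))` -/
  faith : ∀ t ∈ T, (∀ w ∈ ⁅pCore 2 P, pResidual 2 P⁆, ⁅t, w⁆ ∈ Subgroup.centralizer (pResidual 2 P : Set P)) →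
    t ∈ pCore 2 P
  typ : (∃ (K : Type) (_ : Field K) (_ : Fintype K) (n : ℕ), 2 ≤ n ∧ Fintype.card K = 2 ^ n ∧
      ∀ i, ∃ (ρ : ↥(E i) →* Matrix.SpecialLinearGroup (Fin 2) K)
        (ψ : ↥(⁅pCore 2 P, E i⁆ : Subgroup P) →* Multiplicative (Fin 2 → K)),
        Function.Surjective ρ ∧
        (∀ e, ρ e = 1 ↔ (e : P) ∈ ⁅pCore 2 P, E i⁆) ∧ Function.Surjective ψ ∧
        (∀ w, ψ w = 1 ↔ (w : P) ∈ Subgroup.centralizer (E i : Set P)) ∧
        ∀ (e : E i) (w w' : ↥(⁅pCore 2 P, E i⁆ : Subgroup P)), (w' : P) = (e : P) * w * (e : P)⁻¹ →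
          Multiplicative.toAdd (ψ w') =
            ((ρ e : Matrix.SpecialLinearGroup (Fin 2) K) : Matrix (Fin 2) (Fin 2) K).mulVec
              (Multiplicative.toAdd (ψ w))) ∨
    (∃ m : ℕ, 1 ≤ m ∧ (∃ k : ℕ, 2 * m = 2 ^ k) ∧
      ∀ i, ∃ (ρ : ↥(E i) →* Equiv.Perm (Fin (2 * m + 1)))
        (ψ : ↥(⁅pCore 2 P, E i⁆ : Subgroup P) →* Multiplicative (Fin (2 * m + 1) → ZMod 2)),
        ρ.range = alternatingGroup (Fin (2 * m + 1)) ∧
        (∀ e, ρ e = 1 ↔ (e : P) ∈ ⁅pCore 2 P, E i⁆) ∧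
        (∀ w, ∑ k, Multiplicative.toAdd (ψ w) k = 0) ∧
        (∀ v : Fin (2 * m + 1) → ZMod 2, ∑ k, v k = 0 → ∃ w, Multiplicative.toAdd (ψ w) = v) ∧
        (∀ w, ψ w = 1 ↔ (w : P) ∈ Subgroup.centralizer (E i : Set P)) ∧
        ∀ (e : E i) (w w' : ↥(⁅pCore 2 P, E i⁆ : Subgroup P)), (w' : P) = (e : P) * w * (e : P)⁻¹ →
          ∀ k, Multiplicative.toAdd (ψ w') k = Multiplicative.toAdd (ψ w) ((ρ e)⁻¹ k))

/-- Linear rank one data: `E T₀` acts on `W / C_W(E)` as `SL₂(K)` on its natural module, `E = O²(P)`. -/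
def LinOne (P : Type*) [Group P] (W T0 : Subgroup P) (q : ℕ) : Prop :=
  ∃ (K : Type) (_ : Field K) (_ : Fintype K) (n : ℕ), 1 ≤ n ∧ Fintype.card K = 2 ^ n ∧ Fintype.card K = q ∧
    ∃ (ρ : ↥(pResidual 2 P ⊔ T0) →* Matrix.SpecialLinearGroup (Fin 2) K)
      (ψ : ↥W →* Multiplicative (Fin 2 → K)),
      Function.Surjective ρ ∧ (∀ g, ρ g = 1 ↔ (g : P) ∈ pCore 2 P) ∧
      Function.Surjective ψ ∧
      (∀ w : W, ψ w = 1 ↔ (w : P) ∈ Subgroup.centralizer (pResidual 2 P : Set P)) ∧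
      ∀ (e : ↥(pResidual 2 P ⊔ T0)) (w w' : ↥W), (w' : P) = (e : P) * (w : P) * (e : P)⁻¹ →
        Multiplicative.toAdd (ψ w') =
          ((ρ e : Matrix.SpecialLinearGroup (Fin 2) K) : Matrix (Fin 2) (Fin 2) K).mulVec
            (Multiplicative.toAdd (ψ w))

/-- Block data of a 2-minimal group `P` of characteristic 2 with Sylow 2-subgroup `T`, in which no nontrivial
characteristic subgroup of `T` is normal. `Q = O_2(P)`, `K = O^2(P)`. -/
structure BD {P : Type*} [Group P] (T : Subgroup P) where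
  W : Subgroup P
  hW : W = ⁅pCore 2 P, pResidual 2 P⁆
  T0 : Subgroup P
  q : ℕ
  q_ge : 2 ≤ q
  W_le : W ≤ pCore 2 P
  W_normal : W.Normal
  W_comm : ∀ w ∈ W, ∀ g ∈ pCore 2 P, w * g = g * w
  W_sq : ∀ w ∈ W, w ^ 2 = 1
  /-- `[Q, O²(P)] ≤ W` -/
  QK : ⁅pCore 2 P, pResidual 2 P⁆ ≤ W
  /-- `C_T(W) = Q` -/
  CTW : T ⊓ Subgroup.centralizer (W : Set P) = pCore 2 P
  Q_le_T0 : pCore 2 P ≤ T0
  T0_le : T0 ≤ T
  T0_ne : T0 ≠ pCore 2 P
  /-- offender bound for elementary abelian normal subgroups `X` of `T` -/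
  off : ∀ X : Subgroup P, X ≤ T → T ≤ Subgroup.normalizer (X : Set P) →
    (∀ a ∈ X, ∀ b ∈ X, a * b = b * a) → (∀ a ∈ X, a ^ 2 = 1) →
    (pCore 2 P ⊓ X).relIndex X ≤ (W ⊓ Subgroup.centralizer (X : Set P)).relIndex W
  /-- equality only for `X ≤ Q` or `X Q = T₀` -/
  off_eq : ∀ X : Subgroup P, X ≤ T → T ≤ Subgroup.normalizer (X : Set P) →
    (∀ a ∈ X, ∀ b ∈ X, a * b = b * a) → (∀ a ∈ X, a ^ 2 = 1) →
    (W ⊓ Subgroup.centralizer (X : Set P)).relIndex W ≤ (pCore 2 P ⊓ X).relIndex X →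
    X ≤ pCore 2 P ∨ X ⊔ pCore 2 P = T0
  /-- `C_{T/Q}(T₀/Q) ≤ T₀/Q` -/
  cent : ∀ t ∈ T, (∀ a ∈ T0, ⁅t, a⁆ ∈ pCore 2 P) → t ∈ T0
  /-- one coordinate: if `[w, t]` is centralized by `O²(P)` then the `W`-coordinate of `w` or the coordinate of `t`
  vanishes -/
  coord : ∃ Wu Ta : Subgroup P, W ⊓ Subgroup.centralizer (T0 : Set P) ≤ Wu ∧ ¬ W ≤ Wu ∧
    pCore 2 P ≤ Ta ∧ ¬ T0 ≤ Ta ∧
    ∀ w ∈ W, ∀ t ∈ T0, ⁅w, t⁆ ∈ Subgroup.centralizer (pResidual 2 P : Set P) → w ∈ Wu ∨ t ∈ Ta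
  J : Type
  A : J → Subgroup P
  B : J → Subgroup P
  E : J → Subgroup P
  Jne : Nonempty J
  QA : ∀ j, pCore 2 P ≤ A j
  QB : ∀ j, pCore 2 P ≤ B j
  AB : ∀ j, A j ⊔ B j = T0
  Acard : ∀ j, (pCore 2 P).relIndex (A j) = q
  Bcard : ∀ j, (B j).relIndex T0 = q
  E_le : ∀ j, E j ≤ pResidual 2 P
  /-- `[W_j, B_j] = 1` where `W_j = [Q, E_j]` -/
  WB : ∀ j, ∀ w ∈ ⁅pCore 2 P, E j⁆, ∀ b ∈ B j, w * b = b * w
  /-- `E_j` centralizes `[W, B_j]` -/
  EB : ∀ j, ∀ w ∈ W, ∀ b ∈ B j, ∀ e ∈ E j, e * ⁅w, b⁆ = ⁅w, b⁆ * e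
  /-- for `a ∈ A_j \ Q`: `W = W_j C_W(a)` and `|W : C_W(a)| = q` -/
  Aa : ∀ j, ∀ a ∈ A j, a ∉ pCore 2 P →
    W ≤ ⁅pCore 2 P, E j⁆ ⊔ (W ⊓ Subgroup.centralizer ({a} : Set P)) ∧
      (W ⊓ Subgroup.centralizer ({a} : Set P)).relIndex W = q
  /-- for `w ∈ W_j \ C(T₀)` and `a ∈ A_j \ Q` the commutator `[w, a]` is not centralized by `E_j` -/
  wa : ∀ j, ∀ w ∈ ⁅pCore 2 P, E j⁆, w ∉ Subgroup.centralizer (T0 : Set P) → ∀ a ∈ A j, a ∉ pCore 2 P →
    ⁅w, a⁆ ∉ Subgroup.centralizer (E j : Set P)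
  /-- irreducibility: an `E_j`-invariant subgroup of `Q` not centralized by `E_j` contains `W_j` -/
  irr : ∀ j, ∀ X : Subgroup P, X ≤ pCore 2 P → E j ≤ Subgroup.normalizer (X : Set P) →
    ¬ X ≤ Subgroup.centralizer (E j : Set P) → ⁅pCore 2 P, E j⁆ ≤ X
  /-- `W = C_W(T₀) ∏ W_j` -/
  Wsup : W ≤ (W ⊓ Subgroup.centralizer (T0 : Set P)) ⊔ ⨆ j, ⁅pCore 2 P, E j⁆
  dich : (∀ j, B j ≠ pCore 2 P) ∨ LinOne P W T0 q

/-! ### The configuration after the local analysis -/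

/-- The main configuration: `V` elementary abelian, `C_S(V) = V`, `N_S(V) = T < S`, `x ∈ N_S(T) \ T`, and a subgroup
`E ≅ SL₂(K)` of `Aut_F(V)` acting naturally on `V / C_V(E)`, with `V^x` inducing a Sylow 2-subgroup of `E` on `V`. -/
structure Conf {Ω : Type*} [Group Ω] {S : Subgroup Ω} (F : FusionSystem S) (K : Type) [Field K] [Fintype K]
    (V T : Subgroup Ω) (x : Ω) where
  n : ℕ
  hn : 1 ≤ n
  hK : Fintype.card K = 2 ^ n
  V_le : V ≤ S
  fn : F.IsFullyNormalized V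
  nor : normalizerIn S V = T
  cent : centralizerIn S V = V
  el : ∀ v ∈ V, v ^ 2 = 1
  x_mem : x ∈ S
  x_nor : x ∈ Subgroup.normalizer (T : Set Ω)
  x_not : x ∉ T
  x_sq : x ^ 2 ∈ T
  E : Subgroup (MulAut V)
  E_le : E ≤ F.autGroup V
  ρ : E ≃* Matrix.SpecialLinearGroup (Fin 2) K
  ψ : V →* Multiplicative (Fin 2 → K)
  ψ_surj : Function.Surjective ψ
  ψ_ker : ∀ v : V, ψ v = 1 ↔ (v : Ω) ∈ fixS V E
  ψ_eq : ∀ (e : E) (v : V), Multiplicative.toAdd (ψ ((e : MulAut V) v)) =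
    ((ρ e : Matrix.SpecialLinearGroup (Fin 2) K) : Matrix (Fin 2) (Fin 2) K).mulVec (Multiplicative.toAdd (ψ v))
  A_le : autInducedBy (cj x V) V ≤ E
  A_card : Nat.card (autInducedBy (cj x V) V) = Fintype.card K
  T_nor : ∀ t ∈ autInducedBy T V, ∀ e ∈ E, t * e * t⁻¹ ∈ E
  DD : fixS V E ⊓ cj x (fixS V E) = ⊥

/-- The configuration for `q ≥ 4` after excluding field automorphisms in `T`. -/
structure Big {Ω : Type*} [Group Ω] {S : Subgroup Ω} (F : FusionSystem S) (K : Type) [Field K] [Fintype K]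
    (V T : Subgroup Ω) (x : Ω) extends Conf F K V T x where
  q4 : 4 ≤ Fintype.card K
  T_eq : T = V ⊔ cj x V
  S_idx : T.relIndex S = 2
  E_nor : ∀ a ∈ F.autGroup V, ∀ e ∈ toConf.E, a * e * a⁻¹ ∈ toConf.E
  typ : fixS V toConf.E = ⊥ ∨ (Nat.card (fixS V toConf.E) = Fintype.card K ∧ comS V toConf.E = V)

end Cfsg.Agent.H756.HM
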